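import Mathlib

/-!
# Valuation rings dominating a local ring with algebraic residue extension
-/

set_option autoImplicit false
set_option linter.style.haveILetI false

universe u v

open IsLocalRing Polynomial Algebra

namespace Groth.Agent.SubgSpecLib

variable {R : Type v} [CommRing R] {K : Type u} [Field K]

/-- Every element of the local subring is, modulo its maximal ideal, integral over `R`. -/
def AlgRes (f : R →+* K) (B : LocalSubring K) : Prop :=
  ∀ b ∈ B.toSubring, ∃ p : R[X], p.Monic ∧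
    ∃ h : eval₂ f b p ∈ B.toSubring, ¬ IsUnit (⟨eval₂ f b p, h⟩ : B.toSubring)

theorem not_isUnit_mono {A B : LocalSubring K} (hAB : A ≤ B) {x : K} (h : x ∈ A.toSubring)
    (hx : ¬ IsUnit (⟨x, h⟩ : A.toSubring)) : ¬ IsUnit (⟨x, hAB.1 h⟩ : B.toSubring) :=
  fun hu => hx (hAB.2.1 (⟨x, h⟩ : A.toSubring) hu)

theorem algRes_range [IsLocalRing R] (f : R →+* K) : AlgRes f (LocalSubring.range f) := by
  rintro _ ⟨r, rfl⟩
  refine ⟨X - C r, monic_X_sub_C r, ?_⟩
  have e : eval₂ f (f r) (X - C r) = 0 := by simp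
  refine ⟨e ▸ zero_mem _, ?_⟩
  have : (⟨eval₂ f (f r) (X - C r), e ▸ zero_mem _⟩ : (LocalSubring.range f).toSubring) = 0 := Subtype.ext e
  rw [this]
  exact not_isUnit_zero

theorem exists_upperBound [IsLocalRing R] (f : R →+* K) (s : Set (LocalSubring K))
    (hs : s ⊆ {B | LocalSubring.range f ≤ B ∧ AlgRes f B}) (H : IsChain (· ≤ ·) s) (y : LocalSubring K) (hys : y ∈ s) :
    ∃ ub ∈ {B : LocalSubring K | LocalSubring.range f ≤ B ∧ AlgRes f B}, ∀ z ∈ s, z ≤ ub := by
  have inst : Nonempty s := ⟨⟨y, hys⟩⟩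
  have hdir := H.directed.mono_comp _ LocalSubring.toSubring_mono
  have hloc : IsLocalRing ↥(⨆ i : s, i.1.toSubring) := ⟨by
    intro ⟨a, ha⟩ ⟨b, hb⟩ e
    obtain ⟨A, haA : a ∈ A.1.toSubring⟩ := (Subring.mem_iSup_of_directed hdir).mp ha
    obtain ⟨B, hbB : b ∈ B.1.toSubring⟩ := (Subring.mem_iSup_of_directed hdir).mp hb
    obtain ⟨C, hCA, hCB⟩ := hdir A B
    refine (C.1.2.2 (a := ⟨a, hCA haA⟩) (b := ⟨b, hCB hbB⟩) (Subtype.ext congr(($e).1))).imp ?_ ?_
    · exact fun h ↦ h.map (Subring.inclusion (le_iSup (fun i : s ↦ i.1.toSubring) C))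
    · exact fun h ↦ h.map (Subring.inclusion (le_iSup (fun i : s ↦ i.1.toSubring) C))⟩
  let U : LocalSubring K := @LocalSubring.mk _ _ (⨆ i : s, i.1.toSubring) hloc
  have hle : ∀ z ∈ s, z ≤ U := fun z hz => by
    refine ⟨le_iSup (fun i : s ↦ i.1.toSubring) ⟨z, hz⟩, ⟨?_⟩⟩
    rintro ⟨a, ha⟩ hu
    obtain ⟨⟨b, hb⟩, hab⟩ := isUnit_iff_exists_inv.mp hu
    obtain ⟨B, hbB : b ∈ B.1.toSubring⟩ := (Subring.mem_iSup_of_directed hdir).mp hb
    have hab' : a * b = 1 := congrArg Subtype.val hab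
    rcases H.total hz B.2 with h | h
    · exact h.2.1 ⟨a, ha⟩ (isUnit_iff_exists_inv.mpr ⟨⟨b, hbB⟩, Subtype.ext hab'⟩)
    · exact isUnit_iff_exists_inv.mpr ⟨⟨b, h.1 hbB⟩, Subtype.ext hab'⟩
  refine ⟨U, ⟨(hs hys).1.trans (hle y hys), fun b hb => ?_⟩, hle⟩
  obtain ⟨B, hbB : b ∈ B.1.toSubring⟩ := (Subring.mem_iSup_of_directed hdir).mp hb
  obtain ⟨p, hp, h, hu⟩ := (hs B.2).2 b hbB
  exact ⟨p, hp, (hle _ B.2).1 h, not_isUnit_mono (hle _ B.2) h hu⟩

theorem algRes_ofPrime (f : R →+* K) (A : Subring K) (M : Ideal A) [M.IsMaximal] (f1 : R →+* A)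
    (hf1 : ∀ r, (f1 r : K) = f r) (hint : ((Ideal.Quotient.mk M).comp f1).IsIntegral) :
    AlgRes f (LocalSubring.ofPrime A M) := by
  letI : Field (A ⧸ M) := Ideal.Quotient.field M
  intro c hc
  let C := LocalSubring.ofPrime A M
  obtain ⟨⟨s, t⟩, hst⟩ := IsLocalization.surj M.primeCompl (⟨c, hc⟩ : C.toSubring)
  obtain ⟨u, hu⟩ := Ideal.Quotient.mk_surjective ((Ideal.Quotient.mk M (t : A))⁻¹)
  obtain ⟨p, hp, hp'⟩ := hint (Ideal.Quotient.mk M (s * u))
  refine ⟨p, hp, ?_⟩
  let ι := algebraMap A C.toSubring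
  let fC : R →+* C.toSubring := ι.comp f1
  have hfC : C.toSubring.subtype.comp fC = f := RingHom.ext fun r => hf1 r
  have hev : ((eval₂ fC ⟨c, hc⟩ p : C.toSubring) : K) = eval₂ f c p := by
    have h := hom_eval₂ p fC C.toSubring.subtype ⟨c, hc⟩
    rw [hfC] at h
    exact h
  refine ⟨hev ▸ (eval₂ fC ⟨c, hc⟩ p).2, ?_⟩
  rw [show (⟨eval₂ f c p, hev ▸ (eval₂ fC ⟨c, hc⟩ p).2⟩ : C.toSubring) = eval₂ fC ⟨c, hc⟩ p from Subtype.ext hev.symm]
  have hker : (maximalIdeal C.toSubring).comap ι = M :=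
    IsLocalization.AtPrime.comap_maximalIdeal C.toSubring M
  have h0 : ∀ a, a ∈ M → residue C.toSubring (ι a) = 0 := fun a ha =>
    (residue_eq_zero_iff _).mpr (Ideal.mem_comap.mp (hker.symm ▸ ha))
  have htu : residue C.toSubring (ι t * ι u) = 1 := by
    have : (t : A) * u - 1 ∈ M := by
      refine Ideal.Quotient.eq.mp ?_
      rw [map_mul, hu, map_one]
      exact mul_inv_cancel₀ fun h => t.2 (Ideal.Quotient.eq_zero_iff_mem.mp h)
    have := h0 _ this
    rwa [map_sub, map_mul, map_one, map_sub, map_one, sub_eq_zero] at this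
  have hc' : residue C.toSubring ⟨c, hc⟩ = residue C.toSubring (ι (s * u)) := by
    rw [map_mul ι, show ι s = ⟨c, hc⟩ * ι t from hst.symm, mul_assoc, map_mul, htu, mul_one]
  rw [← mem_nonunits_iff, ← mem_maximalIdeal, ← residue_eq_zero_iff]
  rw [← hom_eval₂] at hp'
  rw [hom_eval₂, hc', ← hom_eval₂]
  have h3 : eval₂ fC (ι (s * u)) p = ι (eval₂ f1 (s * u) p) := (hom_eval₂ p f1 ι (s * u)).symm
  rw [h3]
  exact h0 _ (Ideal.Quotient.eq_zero_iff_mem.mp hp')

/-- A maximal element among local subrings with algebraic residue extension does not grow by a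
finitely generated extension in which the maximal ideal survives. -/
theorem map_maximalIdeal_eq_top [IsLocalRing R] (f : R →+* K) {B : LocalSubring K}
    (hA : LocalSubring.range f ≤ B) (hP : AlgRes f B)
    (hmax : ∀ C, LocalSubring.range f ≤ C → AlgRes f C → B ≤ C → C ≤ B) (x : K) (hx : x ∉ B.toSubring) :
    (maximalIdeal B.toSubring).map (algebraMap B.toSubring (Algebra.adjoin B.toSubring ({x} : Set K))) = ⊤ := by
  let S := Algebra.adjoin B.toSubring ({x} : Set K)
  by_contra hne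
  obtain ⟨M, hM, hincl⟩ := Ideal.exists_le_maximal _ hne
  let M' : Ideal S.toSubring := M
  haveI : M'.IsMaximal := hM
  let C : LocalSubring K := LocalSubring.ofPrime S.toSubring M' 
  have hBS : B.toSubring ≤ S.toSubring := fun r hr => algebraMap_mem S ⟨r, hr⟩
  have hSC : S.toSubring ≤ C.toSubring := LocalSubring.le_ofPrime _ _
  have hBC : B ≤ C := by
    refine ⟨hBS.trans hSC, ((local_hom_TFAE _).out 2 0).mp ?_⟩
    conv_rhs => rw [← IsLocalization.AtPrime.map_eq_maximalIdeal M']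
    refine .trans ?_ (Ideal.map_mono hincl)
    rw [Ideal.map_map]; rfl
  let f0 : R →+* B.toSubring := f.codRestrict B.toSubring fun r => hA.1 ⟨r, rfl⟩
  let f1 : R →+* S.toSubring := f.codRestrict S.toSubring fun r => hBS (hA.1 ⟨r, rfl⟩)
  refine hx ((hmax C (hA.trans hBC) (algRes_ofPrime f S.toSubring M' f1 (fun r => rfl) ?_) hBC).1
    (hSC (Algebra.self_mem_adjoin_singleton _ _)))
  letI : Field ((S : Type u) ⧸ M) := Ideal.Quotient.field M
  let m : B.toSubring →+* (S : Type u) ⧸ M := (Ideal.Quotient.mk M).comp (algebraMap _ _)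
  let l : ResidueField B.toSubring →+* (S : Type u) ⧸ M := Ideal.Quotient.lift _ m fun a ha =>
    Ideal.Quotient.eq_zero_iff_mem.mpr (hincl (Ideal.mem_map_of_mem _ ha))
  letI : Algebra (ResidueField B.toSubring) ((S : Type u) ⧸ M) := l.toAlgebra
  haveI : IsScalarTower B.toSubring (ResidueField B.toSubring) ((S : Type u) ⧸ M) :=
    IsScalarTower.of_algebraMap_eq fun a => rfl
  haveI : Algebra.FiniteType B.toSubring ↥S := by
    refine (Subalgebra.fg_iff_finiteType _).mp ⟨{x}, ?_⟩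
    simp [S]
  haveI : Algebra.FiniteType (ResidueField B.toSubring) ((S : Type u) ⧸ M) :=
    Algebra.FiniteType.of_restrictScalars_finiteType B.toSubring _ _
  haveI : Module.Finite (ResidueField B.toSubring) ((S : Type u) ⧸ M) :=
    finite_of_finite_type_of_isJacobsonRing _ _
  let r0 : R →+* ResidueField B.toSubring := (IsLocalRing.residue B.toSubring).comp f0
  have h1 : r0.IsIntegral := by
    intro a
    obtain ⟨b, rfl⟩ := residue_surjective a
    obtain ⟨p, hp, h, hu⟩ := hP b.1 b.2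
    refine ⟨p, hp, ?_⟩
    show eval₂ ((IsLocalRing.residue B.toSubring).comp f0) (residue _ b) p = 0
    rw [← hom_eval₂]
    refine (residue_eq_zero_iff _).mpr ?_
    rw [mem_maximalIdeal, mem_nonunits_iff]
    have e : (eval₂ f0 b p : B.toSubring) = ⟨eval₂ f b.1 p, h⟩ :=
      Subtype.ext (hom_eval₂ p f0 B.toSubring.subtype b)
    rwa [e]
  have h2 : l.IsIntegral := fun a => Algebra.IsIntegral.isIntegral (R := ResidueField B.toSubring) a
  exact RingHom.IsIntegral.trans r0 l h1 h2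

/-- Chevalley: some dominating valuation ring has algebraic residue extension. -/
theorem exists_valuationSubring [IsLocalRing R] (f : R →+* K) :
    ∃ (V : ValuationSubring K) (g : R →+* V), (∀ r, (g r : K) = f r) ∧ IsLocalHom g ∧
      ((residue V).comp g).IsIntegral := by
  obtain ⟨B, -, ⟨hA, hP⟩, hmax⟩ := zorn_le_nonempty₀ {B : LocalSubring K | LocalSubring.range f ≤ B ∧ AlgRes f B}
    (fun s hs H y hy => exists_upperBound f s hs H y hy) (LocalSubring.range f) ⟨le_rfl, algRes_range f⟩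
  have hmax' : ∀ C, LocalSubring.range f ≤ C → AlgRes f C → B ≤ C → C ≤ B := fun C h1 h2 h => hmax ⟨h1, h2⟩ h
  have hint : ∀ x : K, IsIntegral B.toSubring x → x ∈ B.toSubring := fun x hx => by
    by_contra hx'
    haveI : Algebra.IsIntegral B.toSubring (Algebra.adjoin B.toSubring ({x} : Set K)) :=
      Algebra.IsIntegral.adjoin (by simpa)
    obtain ⟨Q, hQ, e⟩ := Ideal.exists_ideal_over_maximal_of_isIntegral
      (S := Algebra.adjoin B.toSubring ({x} : Set K)) (maximalIdeal B.toSubring) (le_maximalIdeal (by simp))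
    refine hQ.ne_top (top_unique ?_)
    rw [← map_maximalIdeal_eq_top f hA hP hmax' x hx']
    exact Ideal.map_le_iff_le_comap.mpr e.ge
  have hV : ∀ x : K, x ∈ B.toSubring ∨ x⁻¹ ∈ B.toSubring := fun x => by
    refine or_iff_not_imp_left.mpr fun hx => hint _ ?_
    have hx0 : x ≠ 0 := fun e => hx (e ▸ zero_mem _)
    let := invertibleOfNonzero hx0
    have ⟨p, hp, hpx⟩ := exists_aeval_invOf_eq_zero_of_idealMap_adjoin_sup_span_eq_top x _
      (maximalIdeal.isMaximal B.toSubring).ne_top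
      (top_unique <| (map_maximalIdeal_eq_top f hA hP hmax' x hx).ge.trans le_self_add)
    have H : IsUnit p.leadingCoeff := of_not_not fun h ↦ by simpa using sub_mem h hp
    exact ⟨.C H.unit⁻¹.1 * p, by simp [Polynomial.Monic], by simpa using .inr hpx⟩
  let V : ValuationSubring K := ⟨B.toSubring, hV⟩
  let g : R →+* V := f.codRestrict B.toSubring fun r => hA.1 ⟨r, rfl⟩
  refine ⟨V, g, fun r => rfl, ?_, ?_⟩
  · refine ⟨fun r hr => ?_⟩
    exact (Function.Surjective.isLocalHom _ f.rangeRestrict_surjective).map_nonunit r (hA.2.1 ⟨f r, r, rfl⟩ hr)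
  · intro a
    obtain ⟨b, rfl⟩ := residue_surjective a
    obtain ⟨p, hp, h, hu⟩ := hP b.1 b.2
    refine ⟨p, hp, ?_⟩
    rw [← hom_eval₂]
    refine (residue_eq_zero_iff _).mpr ?_
    rw [mem_maximalIdeal, mem_nonunits_iff]
    have e : (eval₂ g b p : V) = ⟨eval₂ f b.1 p, h⟩ :=
      Subtype.ext (hom_eval₂ p g B.toSubring.subtype b)
    rw [e]
    exact hu

end Groth.Agent.SubgSpecLib
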