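import Groth.Agent.SubgSpecLib.Main
import Groth.Agent.SubgSpecLib.Val
import Groth.Agent.SolvLocusLib.Global
import Groth.Prelude.Def_ActBC

/-!
# Specializing subgroups of geometric fibres
-/

set_option autoImplicit false
set_option backward.isDefEq.respectTransparency false
set_option backward.isDefEq.respectTransparency.types false
set_option linter.style.haveILetI false
set_option linter.unusedSectionVars false

universe u

open CategoryTheory CategoryTheory.Limits MonoidalCategory CartesianMonoidalCategory MonObj AlgebraicGeometry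
open IsLocalRing Polynomial

noncomputable section

attribute [-instance] CategoryTheory.CommGrpObj.toIsCommMonObj CategoryTheory.CommGrpObj.toGrpObj CategoryTheory.Hom.commGroup

namespace Groth.Agent.SubgSpecLib

/-- The residue field of a valuation subring of an algebraically closed field is algebraically closed. -/
theorem isAlgClosed_residueField {K : Type u} [Field K] [IsAlgClosed K] (V : ValuationSubring K) :
    IsAlgClosed (ResidueField V) := by
  refine IsAlgClosed.of_exists_root _ fun p hp hirr => ?_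
  obtain ⟨q, hq, hdeg, hqm⟩ := Polynomial.lifts_and_degree_eq_and_monic
    ((Polynomial.lifts_iff_coeff_lifts p).2 fun n => residue_surjective (p.coeff n)) hp
  have hd : (q.map (algebraMap V K)).degree ≠ 0 := by
    rw [hqm.degree_map (algebraMap V K), hdeg]
    exact hirr.degree_pos.ne'
  obtain ⟨x, hx⟩ := IsAlgClosed.exists_root _ hd
  have hint : IsIntegral V x := ⟨q, hqm, by rwa [IsRoot.def, Polynomial.eval_map] at hx⟩
  obtain ⟨y, rfl⟩ := IsIntegrallyClosed.isIntegral_iff.1 hint
  refine ⟨residue V y, ?_⟩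
  rw [IsRoot.def, Polynomial.eval_map, eval₂_at_apply] at hx
  have hy : q.eval y = 0 := IsFractionRing.injective V K (hx.trans (map_zero _).symm)
  rw [← hq, Polynomial.eval_map, eval₂_at_apply, hy, map_zero]

variable {S : Scheme.{u}}

set_option maxHeartbeats 1600000 in
/-- A subgroup of a geometric fibre with a vanishing series has a companion in every specialized fibre. -/
theorem exists_specialized (G : Over S) [GrpObj G] [LocallyOfFiniteType G.hom] [QuasiCompact G.hom] (n : ℕ)
    {s s' : S} (h : s ⤳ s') (Ser : Series.{u})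
    (H : Over (Spec (CommRingCat.of (AlgebraicClosure (S.residueField s))))) [GrpObj H] (i : H ⟶ Red.geomFibre s G)
    [IsMonHom i] [IsClosedImmersion i.left] [Smooth H.hom] [ConnectedSpace H.left]
    (hH : ∀ T, Ser.F (⊤ : Subgroup (T ⟶ H)) = ⊥) (hn : (n : WithBot ℕ∞) ≤ topologicalKrullDim ↥H.left) :
    ∃ (Γ : Over (Spec (CommRingCat.of (AlgebraicClosure (S.residueField s'))))) (_ : GrpObj Γ)
      (i' : Γ ⟶ Red.geomFibre s' G),
      IsMonHom i' ∧ IsClosedImmersion i'.left ∧ Smooth Γ.hom ∧ ConnectedSpace ↥Γ.left ∧ QuasiCompact Γ.hom ∧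
      Ser.F (⊤ : Subgroup (𝟙_ (Over (Spec (CommRingCat.of (AlgebraicClosure (S.residueField s'))))) ⟶ Γ)) = ⊥ ∧
      (n : WithBot ℕ∞) ≤ topologicalKrullDim ↥Γ.left := by
  let K := AlgebraicClosure (S.residueField s)
  let Ω := AlgebraicClosure (S.residueField s')
  let f : S.presheaf.stalk s' →+* K :=
    (algebraMap (S.residueField s) K).comp ((S.residue s).hom.comp (S.presheaf.stalkSpecializes h).hom)
  obtain ⟨V, g, hg, hloc, hint⟩ := exists_valuationSubring f
  haveI := hloc
  haveI : IsAlgClosed (ResidueField V) := isAlgClosed_residueField V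
  let r₀ : S.residueField s' →+* ResidueField V := ResidueField.map g
  letI : Algebra (S.residueField s') (ResidueField V) := r₀.toAlgebra
  haveI : Algebra.IsAlgebraic (S.residueField s') (ResidueField V) := by
    refine ⟨fun x => ?_⟩
    obtain ⟨p, hp, hpx⟩ := hint x
    have hi : IsIntegral (S.residueField s') x := ⟨p.map (S.residue s').hom, hp.map _, by
      rw [eval₂_map]
      exact hpx⟩
    exact hi.isAlgebraic
  haveI : IsAlgClosure (S.residueField s') (ResidueField V) := ⟨inferInstance, inferInstance⟩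
  let e : ResidueField V ≃ₐ[S.residueField s'] Ω := IsAlgClosure.equiv (S.residueField s') (ResidueField V) Ω
  let π : V →+* Ω := e.toRingEquiv.toRingHom.comp (residue V)
  have hπ : Function.Surjective π := e.surjective.comp residue_surjective
  let v : Spec (CommRingCat.of V) ⟶ S := Spec.map (CommRingCat.ofHom g) ≫ S.fromSpecStalk s'
  let j := Spec.map (CommRingCat.ofHom π)
  have h1 : gen (V := V) K ≫ v = Red.geomPt s := by
    show Spec.map (CommRingCat.ofHom (algebraMap V K)) ≫ Spec.map (CommRingCat.ofHom g) ≫ S.fromSpecStalk s' =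
      Spec.map (CommRingCat.ofHom (algebraMap (S.residueField s) K)) ≫ Spec.map (S.residue s) ≫ S.fromSpecStalk s
    rw [← Scheme.SpecMap_stalkSpecializes_fromSpecStalk h, ← Spec.map_comp_assoc, ← Spec.map_comp_assoc, ← Spec.map_comp_assoc]
    congr 2
    ext r
    exact hg r
  have h2 : j ≫ v = Red.geomPt s' := by
    show Spec.map (CommRingCat.ofHom π) ≫ Spec.map (CommRingCat.ofHom g) ≫ S.fromSpecStalk s' =
      Spec.map (CommRingCat.ofHom (algebraMap (S.residueField s') Ω)) ≫ Spec.map (S.residue s') ≫ S.fromSpecStalk s'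
    rw [← Spec.map_comp_assoc, ← Spec.map_comp_assoc]
    congr 2
    ext r
    exact e.commutes ((S.residue s').hom r)
  haveI : LocallyOfFiniteType (Red.bc v G).hom := MorphismProperty.pullback_snd _ _ ‹LocallyOfFiniteType G.hom›
  obtain ⟨φ, hφ⟩ : ∃ φ : Red.bc (gen (V := V) K) (Red.bc v G) ≅ Red.geomFibre s G, IsMonHom φ.hom :=
    ⟨_, ActBC.bcCompIso_isMonHom (gen (V := V) K) v h1⟩
  obtain ⟨ψ, hψ⟩ : ∃ ψ : Red.bc j (Red.bc v G) ≅ Red.geomFibre s' G, IsMonHom ψ.hom :=
    ⟨_, ActBC.bcCompIso_isMonHom j v h2⟩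
  haveI : IsClosedImmersion (i ≫ φ.inv).left := by rw [Over.comp_left]; infer_instance
  obtain ⟨Γ, hΓ, i', hi', hci', hsm, hconn, hF, hdim⟩ :=
    exists_special (V := V) (G := Red.bc v G) K π hπ Ser H (i ≫ φ.inv) hH n hn
  letI := hΓ
  haveI := hi'
  haveI := hci'
  haveI : IsClosedImmersion (i' ≫ ψ.hom).left := by rw [Over.comp_left]; infer_instance
  haveI : QuasiCompact (Red.geomFibre s' G).hom := MorphismProperty.pullback_snd _ _ ‹QuasiCompact G.hom›
  refine ⟨Γ, hΓ, i' ≫ ψ.hom, inferInstance, inferInstance, hsm, hconn, ?_, hF, hdim⟩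
  rw [← Over.w (i' ≫ ψ.hom)]
  infer_instance

/-- Commutativity of a smooth group over an algebraically closed field is read on rational points. -/
theorem isCommMonObj_of_pts {k : Type u} [Field k] [IsAlgClosed k] (H : Over (Spec (CommRingCat.of k))) [GrpObj H]
    [Smooth H.hom] [QuasiCompact H.hom]
    (h : ∀ a b : 𝟙_ (Over (Spec (CommRingCat.of k))) ⟶ H, a * b = b * a) : IsCommMonObj H := by
  obtain ⟨e⟩ := SolvLocusLib.unitIso k
  have h1 : (⊤ : Subgroup (𝟙_ (Over (Spec (CommRingCat.of k))) ⟶ H)).lowerCentralSeries 1 = ⊥ := by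
    rw [← lcs_top]
    exact lcs_one_top.2 h
  rw [GenSubLib.isCommMonObj_iff]
  intro T a b
  have h2 := ((S5366.result k H k 1).2).2
    ((SolvLocusLib.lcs_congr (SolvLocusLib.isoPts H e.symm) 1).2 h1) T
  rw [← lcs_top] at h2
  exact lcs_one_top.1 h2 a b

end Groth.Agent.SubgSpecLib
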