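import Groth.Agent.SubgSpecLib.Base
import Groth.Agent.Neutral.Closure

/-!
# Subgroups over an extension of algebraically closed fields
-/

set_option autoImplicit false
set_option backward.isDefEq.respectTransparency false
set_option backward.isDefEq.respectTransparency.types false
set_option linter.style.haveILetI false
set_option linter.unusedSectionVars false

universe u

open CategoryTheory CategoryTheory.Limits MonoidalCategory CartesianMonoidalCategory MonObj AlgebraicGeometry
open IsLocalRing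

attribute [-instance] CategoryTheory.CommGrpObj.toIsCommMonObj CategoryTheory.CommGrpObj.toGrpObj CategoryTheory.Hom.commGroup

noncomputable section

namespace Groth.Agent.SubgSpecLib

theorem isMonHom_of_points {C : Type*} [Category C] [CartesianMonoidalCategory C] {H G : C} [GrpObj H] [GrpObj G]
    (f : H ⟶ G) (h : ∀ {T : C} (a b : T ⟶ H), (a * b) ≫ f = (a ≫ f) * (b ≫ f)) : IsMonHom f := by
  have h1 : ∀ T : C, (1 : T ⟶ H) ≫ f = 1 := fun T => by
    have e := h (1 : T ⟶ H) 1
    rw [_root_.one_mul] at e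
    exact mul_eq_right.1 e.symm
  refine ⟨?_, ?_⟩
  · have e := h1 (𝟙_ C)
    rwa [Hom.one_def, Hom.one_def, toUnit_unit, Category.id_comp, Category.id_comp] at e
  · have e := h (fst H H) (snd H H)
    rw [Hom.mul_def, Hom.mul_def, lift_fst_snd, Category.id_comp] at e
    rw [e]
    congr 1
    apply CartesianMonoidalCategory.hom_ext <;> simp

/-- Base change along an identity. -/
theorem exists_bcId {S : Scheme.{u}} (w : S ⟶ S) (hw : w = 𝟙 S) (G : Over S) [GrpObj G] :
    ∃ δ : Red.bc w G ⟶ G, IsMonHom δ ∧ IsIso δ.left := by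
  subst hw
  let adj := Over.mapPullbackAdj (𝟙 S)
  let mi : ∀ X : Over S, X ≅ (Over.map (𝟙 S)).obj X := fun X => Over.isoMk (Iso.refl _) (by simp)
  let δ : Red.bc (𝟙 S) G ⟶ G := (mi _).hom ≫ adj.counit.app G
  have hpts : ∀ {T : Over S} (a : T ⟶ Red.bc (𝟙 S) G), a ≫ δ = (mi T).hom ≫ (adj.homEquiv T G).symm a := fun {T} a => by
    rw [Adjunction.homEquiv_counit, ← Category.assoc, ← Category.assoc]
    congr 1
  refine ⟨δ, isMonHom_of_points δ fun {T} a b => ?_, ?_⟩
  · have hmul : (adj.homEquiv T G).symm (a * b) = (adj.homEquiv T G).symm a * (adj.homEquiv T G).symm b := by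
      rw [Equiv.symm_apply_eq]
      conv_lhs => rw [← Equiv.apply_symm_apply (adj.homEquiv T G) a, ← Equiv.apply_symm_apply (adj.homEquiv T G) b]
      rw [Adjunction.homEquiv_unit, Adjunction.homEquiv_unit, Adjunction.homEquiv_unit, Functor.map_mul, MonObj.comp_mul]
    rw [hpts, hpts, hpts, hmul, MonObj.comp_mul]
  · have h : δ.left = pullback.fst G.hom (𝟙 S) := by simp [δ, mi, adj]
    rw [h]
    infer_instance

set_option maxHeartbeats 800000 in
/-- A subgroup over a bigger algebraically closed field with a vanishing series has a companion below. -/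
theorem exists_descended {k : Type u} [Field k] [IsAlgClosed k] (F : Type u) [Field F] [IsAlgClosed F] [Algebra k F]
    (G : Over (Spec (CommRingCat.of k))) [GrpObj G] [LocallyOfFiniteType G.hom] [QuasiCompact G.hom] (n : ℕ)
    (Ser : Series.{u}) (H : Over (Spec (CommRingCat.of F))) [GrpObj H]
    (i : H ⟶ Red.bc (Spec.map (CommRingCat.ofHom (algebraMap k F))) G)
    [IsMonHom i] [IsClosedImmersion i.left] [Smooth H.hom] [ConnectedSpace H.left]
    (hH : ∀ T, Ser.F (⊤ : Subgroup (T ⟶ H)) = ⊥) (hn : (n : WithBot ℕ∞) ≤ topologicalKrullDim ↥H.left) :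
    ∃ (Γ : Over (Spec (CommRingCat.of k))) (_ : GrpObj Γ) (i' : Γ ⟶ G),
      IsMonHom i' ∧ IsClosedImmersion i'.left ∧ Smooth Γ.hom ∧ ConnectedSpace ↥Γ.left ∧ QuasiCompact Γ.hom ∧
      Ser.F (⊤ : Subgroup (𝟙_ (Over (Spec (CommRingCat.of k))) ⟶ Γ)) = ⊥ ∧
      (n : WithBot ℕ∞) ≤ topologicalKrullDim ↥Γ.left := by
  obtain ⟨V, g, hg, hloc, hint⟩ := exists_valuationSubring (algebraMap k F)
  let r₀ : k →+* ResidueField V := (residue V).comp g
  letI : Algebra k (ResidueField V) := r₀.toAlgebra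
  haveI : Algebra.IsIntegral k (ResidueField V) := ⟨hint⟩
  let e : k ≃+* ResidueField V := RingEquiv.ofBijective (algebraMap k (ResidueField V))
    IsAlgClosed.algebraMap_bijective_of_isIntegral
  let π : V →+* k := e.symm.toRingHom.comp (residue V)
  have hπ : Function.Surjective π := e.symm.surjective.comp residue_surjective
  let v : Spec (CommRingCat.of V) ⟶ Spec (CommRingCat.of k) := Spec.map (CommRingCat.ofHom g)
  let j := Spec.map (CommRingCat.ofHom π)
  have h1 : gen (V := V) F ≫ v = Spec.map (CommRingCat.ofHom (algebraMap k F)) := by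
    rw [← Spec.map_comp]
    congr 1
    ext r
    exact hg r
  have h2 : j ≫ v = 𝟙 _ := by
    rw [← Spec.map_comp, ← Spec.map_id]
    congr 1
    ext r
    exact e.symm_apply_apply r
  haveI : LocallyOfFiniteType (Red.bc v G).hom := MorphismProperty.pullback_snd _ _ ‹LocallyOfFiniteType G.hom›
  obtain ⟨φ, hφ⟩ : ∃ φ : Red.bc (gen (V := V) F) (Red.bc v G) ≅
      Red.bc (Spec.map (CommRingCat.ofHom (algebraMap k F))) G, IsMonHom φ.hom :=
    ⟨_, ActBC.bcCompIso_isMonHom (gen (V := V) F) v h1⟩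
  obtain ⟨ψ, hψ⟩ : ∃ ψ : Red.bc j (Red.bc v G) ≅ Red.bc (j ≫ v) G, IsMonHom ψ.hom :=
    ⟨_, ActBC.bcCompIso_isMonHom j v rfl⟩
  obtain ⟨δ, hδ, hδi⟩ := exists_bcId (j ≫ v) h2 G
  haveI : IsClosedImmersion (i ≫ φ.inv).left := by rw [Over.comp_left]; infer_instance
  obtain ⟨Γ, hΓ, i', hi', hci', hsm, hconn, hF, hdim⟩ :=
    exists_special (V := V) (G := Red.bc v G) F π hπ Ser H (i ≫ φ.inv) hH n hn
  letI := hΓ
  haveI := hi'
  haveI := hci'
  haveI : IsClosedImmersion (i' ≫ ψ.hom ≫ δ).left := by rw [Over.comp_left, Over.comp_left]; infer_instance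
  refine ⟨Γ, hΓ, i' ≫ ψ.hom ≫ δ, inferInstance, inferInstance, hsm, hconn, ?_, hF, hdim⟩
  rw [← Over.w (i' ≫ ψ.hom ≫ δ)]
  infer_instance

end Groth.Agent.SubgSpecLib
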