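import Mathlib

/-!
# Series of subgroups that are finitary, monotone and natural
-/

set_option autoImplicit false

universe u

namespace Groth.Agent.SubgSpecLib

/-- A natural finitary operation on subgroups. -/
structure Series where
  F : ∀ {A : Type u} [Group A], Subgroup A → Subgroup A
  le : ∀ {A : Type u} [Group A] (S : Subgroup A), F S ≤ S
  mono : ∀ {A : Type u} [Group A] {S T : Subgroup A}, S ≤ T → F S ≤ F T
  map : ∀ {A B : Type u} [Group A] [Group B] (f : A →* B) (S : Subgroup A), (F S).map f = F (S.map f)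
  fin : ∀ {A : Type u} [Group A] (S : Subgroup A) (x : A), x ∈ F S →
    ∃ t : Finset A, (↑t : Set A) ⊆ S ∧ x ∈ F (Subgroup.closure (↑t : Set A))

/-- The identity series. -/
def Series.id' : Series.{u} where
  F S := S
  le _ := le_rfl
  mono h := h
  map _ _ := rfl
  fin S x hx := ⟨{x}, by simpa using hx, Subgroup.subset_closure (by simp)⟩

/-- Commutators of two series. -/
def Series.comm (P Q : Series.{u}) : Series.{u} where
  F S := ⁅P.F S, Q.F S⁆
  le S := by
    rw [Subgroup.commutator_le]
    intro a ha b hb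
    rw [commutatorElement_def]
    exact mul_mem (mul_mem (mul_mem (P.le S ha) (Q.le S hb)) (inv_mem (P.le S ha))) (inv_mem (Q.le S hb))
  mono h := Subgroup.commutator_mono (P.mono h) (Q.mono h)
  map f S := by rw [Subgroup.map_commutator, P.map, Q.map]
  fin := by
    classical
    intro A _ S x hx
    have hm : ∀ {t t' : Finset A}, t ⊆ t' → ⁅P.F (Subgroup.closure (↑t : Set A)), Q.F (Subgroup.closure (↑t : Set A))⁆ ≤
        ⁅P.F (Subgroup.closure (↑t' : Set A)), Q.F (Subgroup.closure (↑t' : Set A))⁆ := fun h =>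
      Subgroup.commutator_mono (P.mono (Subgroup.closure_mono (Finset.coe_subset.2 h)))
        (Q.mono (Subgroup.closure_mono (Finset.coe_subset.2 h)))
    rw [Subgroup.commutator_def] at hx
    induction hx using Subgroup.closure_induction with
    | mem x hx =>
      obtain ⟨a, ha, b, hb, rfl⟩ := hx
      obtain ⟨t1, h1, h1'⟩ := P.fin S a ha
      obtain ⟨t2, h2, h2'⟩ := Q.fin S b hb
      refine ⟨t1 ∪ t2, by simp [h1, h2], Subgroup.commutator_mem_commutator ?_ ?_⟩
      · exact P.mono (Subgroup.closure_mono (by simp)) h1'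
      · exact Q.mono (Subgroup.closure_mono (by simp)) h2'
    | one => exact ⟨∅, by simp, one_mem _⟩
    | mul a b _ _ ha hb =>
      obtain ⟨t1, h1, h1'⟩ := ha
      obtain ⟨t2, h2, h2'⟩ := hb
      exact ⟨t1 ∪ t2, by simp [h1, h2], mul_mem (hm Finset.subset_union_left h1') (hm Finset.subset_union_right h2')⟩
    | inv a _ ha =>
      obtain ⟨t, h, h'⟩ := ha
      exact ⟨t, h, inv_mem h'⟩

/-- The derived series. -/
def derived : ℕ → Series.{u}
  | 0 => Series.id'
  | n + 1 => (derived n).comm (derived n)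

/-- The lower central series. -/
def lcs : ℕ → Series.{u}
  | 0 => Series.id'
  | n + 1 => (lcs n).comm Series.id'

theorem derived_top {A : Type u} [Group A] (n : ℕ) : (derived n).F (⊤ : Subgroup A) = derivedSeries A n := by
  induction n with
  | zero => rfl
  | succ n ih =>
    show ⁅(derived n).F ⊤, (derived n).F ⊤⁆ = _
    rw [ih]
    rfl

theorem lcs_top {A : Type u} [Group A] (n : ℕ) :
    (lcs n).F (⊤ : Subgroup A) = (⊤ : Subgroup A).lowerCentralSeries n := by
  induction n with
  | zero => rfl
  | succ n ih =>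
    show ⁅(lcs n).F ⊤, (⊤ : Subgroup A)⁆ = _
    rw [ih]
    rfl

theorem lcs_one_top {A : Type u} [Group A] :
    (lcs 1).F (⊤ : Subgroup A) = ⊥ ↔ ∀ a b : A, a * b = b * a := by
  show ⁅(⊤ : Subgroup A), ⊤⁆ = ⊥ ↔ _
  rw [eq_bot_iff, Subgroup.commutator_le]
  refine ⟨fun h a b => commutatorElement_eq_one_iff_mul_comm.1 (h a trivial b trivial), fun h a _ b _ => ?_⟩
  exact commutatorElement_eq_one_iff_mul_comm.2 (h a b)

/-- The series vanishes on a generated subgroup when it vanishes on all finitely generated pieces. -/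
theorem eq_bot_of_finite {A : Type u} [Group A] (P : Series.{u}) (s : Set A)
    (h : ∀ (n : ℕ) (y : Fin n → A), (∀ l, y l ∈ s) → P.F (Subgroup.closure (Set.range y)) = ⊥) :
    P.F (Subgroup.closure s) = ⊥ := by
  classical
  rw [eq_bot_iff]
  intro x hx
  obtain ⟨t, ht, hxt⟩ := P.fin _ x hx
  have hfin : ∀ t : Finset A, (↑t : Set A) ⊆ Subgroup.closure s →
      ∃ w : Finset A, (↑w : Set A) ⊆ s ∧ (↑t : Set A) ⊆ Subgroup.closure (↑w : Set A) := by
    intro t
    induction t using Finset.induction_on with
    | empty => exact fun _ => ⟨∅, by simp, by simp⟩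
    | insert a t hnot ih =>
      intro h'
      obtain ⟨w, hw, hw'⟩ := ih fun z hz => h' (Finset.mem_insert_of_mem hz)
      have ha : a ∈ Subgroup.closure s := h' (Finset.mem_insert_self a t)
      have : ∃ v : Finset A, (↑v : Set A) ⊆ s ∧ a ∈ Subgroup.closure (↑v : Set A) := by
        clear h' hnot
        induction ha using Subgroup.closure_induction with
        | mem a ha => exact ⟨{a}, by simpa using ha, Subgroup.subset_closure (by simp)⟩
        | one => exact ⟨∅, by simp, one_mem _⟩
        | mul a b _ _ ha hb =>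
          obtain ⟨v1, h1, h1'⟩ := ha
          obtain ⟨v2, h2, h2'⟩ := hb
          exact ⟨v1 ∪ v2, by simp [h1, h2], mul_mem (Subgroup.closure_mono (by simp) h1') (Subgroup.closure_mono (by simp) h2')⟩
        | inv a _ ha =>
          obtain ⟨v, h1, h1'⟩ := ha
          exact ⟨v, h1, inv_mem h1'⟩
      obtain ⟨v, hv, hv'⟩ := this
      refine ⟨v ∪ w, by simp [hv, hw], fun z hz => ?_⟩
      rcases Finset.mem_insert.1 hz with rfl | hz
      · exact Subgroup.closure_mono (by simp) hv'
      · exact Subgroup.closure_mono (by simp) (hw' hz)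
  obtain ⟨w, hw, hw'⟩ := hfin t ht
  have h2 := h w.card (fun l => (w.equivFin.symm l : A)) fun l => hw (w.equivFin.symm l).2
  have he : Set.range (fun l => (w.equivFin.symm l : A)) = (↑w : Set A) := by
    ext z
    exact ⟨by rintro ⟨l, rfl⟩; exact (w.equivFin.symm l).2, fun hz => ⟨w.equivFin ⟨z, hz⟩, by simp⟩⟩
  rw [he] at h2
  rw [← h2]
  exact P.mono (by rwa [Subgroup.closure_le]) hxt

end Groth.Agent.SubgSpecLib
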