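import Groth.Agent.SubgSpecLib.Geom
import Groth.Agent.SubgSpecLib.Series
import Groth.Agent.GenSubLib.CommutatorPts
import Groth.Agent.GeomIrred.Scheme
import Groth.Agent.AVLib.IdSub

/-!
# Specializing a subgroup of the generic fibre over a valuation ring
-/

set_option autoImplicit false
set_option backward.isDefEq.respectTransparency false
set_option backward.isDefEq.respectTransparency.types false
set_option linter.style.haveILetI false
set_option linter.unusedSectionVars false

universe u

open CategoryTheory CategoryTheory.Limits MonoidalCategory CartesianMonoidalCategory MonObj AlgebraicGeometry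
open Topology TopologicalSpace

noncomputable section

attribute [-instance] CommGrpObj.toIsCommMonObj CommGrpObj.toGrpObj CategoryTheory.Hom.commGroup

namespace Groth.Agent.SubgSpecLib

section Pow

variable {S : Scheme.{u}}

/-- Powers of an object. -/
def pw (P : Over S) : ℕ → Over S
  | 0 => 𝟙_ _
  | N + 1 => P ⊗ pw P N

/-- The projections of a power. -/
def pproj (P : Over S) : (N : ℕ) → Fin N → (pw P N ⟶ P)
  | 0 => fun l => l.elim0
  | N + 1 => fun l => Fin.cases (fst P (pw P N)) (fun l' => snd P (pw P N) ≫ pproj P N l') l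

/-- The map into a power. -/
def plift {P T : Over S} : (N : ℕ) → (Fin N → (T ⟶ P)) → (T ⟶ pw P N)
  | 0, _ => toUnit T
  | N + 1, f => lift (f 0) (plift N fun l => f l.succ)

theorem plift_proj {P T : Over S} : ∀ (N : ℕ) (f : Fin N → (T ⟶ P)) (l : Fin N), plift N f ≫ pproj P N l = f l := by
  intro N
  induction N with
  | zero => exact fun _ l => l.elim0
  | succ N ih =>
    intro f l
    induction l using Fin.cases with
    | zero => exact lift_fst _ _
    | succ l =>
      show lift _ _ ≫ snd P (pw P N) ≫ pproj P N l = _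
      rw [lift_snd_assoc, ih]

theorem flat_pw (P : Over S) [Flat P.hom] : ∀ N, Flat (pw P N).hom := by
  intro N
  induction N with
  | zero => exact inferInstanceAs (Flat (𝟙 S))
  | succ N ih =>
    haveI := ih
    exact inferInstanceAs (Flat (pullback.fst P.hom (pw P N).hom ≫ P.hom))

theorem props_pw {k : Type u} [Field k] [IsAlgClosed k] (X : Over (Spec (CommRingCat.of k)))
    [IrreducibleSpace X.left] [LocallyOfFiniteType X.hom] :
    ∀ N, IrreducibleSpace (pw X N).left ∧ LocallyOfFiniteType (pw X N).hom := by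
  intro N
  induction N with
  | zero =>
    haveI : Subsingleton (Spec (CommRingCat.of k)) := inferInstanceAs (Subsingleton (PrimeSpectrum k))
    haveI : Nonempty (Spec (CommRingCat.of k)) := ⟨IsLocalRing.closedPoint k⟩
    exact ⟨show IrreducibleSpace (Spec (CommRingCat.of k)) from ⟨‹_›⟩, inferInstanceAs (LocallyOfFiniteType (𝟙 _))⟩
  | succ N ih =>
    haveI := ih.1
    haveI := ih.2
    haveI := GeomIrred.geometricallyIrreducible_of_irreducibleSpace (k := k) X.hom
    exact ⟨inferInstanceAs (IrreducibleSpace ↥(pullback X.hom (pw X N).hom)),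
      inferInstanceAs (LocallyOfFiniteType (pullback.fst X.hom (pw X N).hom ≫ X.hom))⟩

end Pow

/-- Base change of points. -/
def bm {S S' : Scheme.{u}} (w : S' ⟶ S) (G : Over S) [GrpObj G] (T : Over S) :
    (T ⟶ G) →* (Red.bc w T ⟶ Red.bc w G) where
  toFun a := (Over.pullback w).map a
  map_one' := Functor.map_one _
  map_mul' a b := Functor.map_mul _ a b

theorem bm_left_fst {S S' : Scheme.{u}} (w : S' ⟶ S) {G : Over S} [GrpObj G] {T : Over S} (a : T ⟶ G) :
    (bm w G T a).left ≫ pullback.fst G.hom w = pullback.fst T.hom w ≫ a.left :=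
  map_left_fst w a

/-- Precomposition on points. -/
def pre {S : Scheme.{u}} (G : Over S) [GrpObj G] {T T' : Over S} (s : T' ⟶ T) : (T ⟶ G) →* (T' ⟶ G) where
  toFun f := s ≫ f
  map_one' := MonObj.comp_one s
  map_mul' f g := MonObj.comp_mul s f g

/-- Postcomposition with a homomorphism. -/
def post {S : Scheme.{u}} {H G : Over S} [GrpObj H] [GrpObj G] (i : H ⟶ G) [IsMonHom i] (T : Over S) :
    (T ⟶ H) →* (T ⟶ G) where
  toFun f := f ≫ i
  map_one' := MonObj.one_comp i
  map_mul' f g := MonObj.mul_comp f g i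

variable {V : Type u} [CommRing V] [IsDomain V] [ValuationRing V]
variable (K : Type u) [Field K] [Algebra V K] [IsFractionRing V K] [IsAlgClosed K]
variable {G : Over (Spec (CommRingCat.of V))} [GrpObj G] [LocallyOfFiniteType G.hom]
variable {Ω : Type u} [Field Ω] [IsAlgClosed Ω] (π : V →+* Ω) (hπ : Function.Surjective π)

include hπ

set_option maxHeartbeats 1600000 in
/-- A subgroup of the generic fibre with a vanishing series has a companion in the special fibre. -/
theorem exists_special (Ser : Series.{u}) (H : Over (Spec (CommRingCat.of K))) [GrpObj H]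
    (i : H ⟶ Red.bc (gen (V := V) K) G) [IsMonHom i] [IsClosedImmersion i.left] [Smooth H.hom]
    [ConnectedSpace H.left] (hH : ∀ T, Ser.F (⊤ : Subgroup (T ⟶ H)) = ⊥) (n : ℕ)
    (hn : (n : WithBot ℕ∞) ≤ topologicalKrullDim ↥H.left) :
    ∃ (Γ : Over (Spec (CommRingCat.of Ω))) (_ : GrpObj Γ) (i' : Γ ⟶ Red.bc (Spec.map (CommRingCat.ofHom π)) G),
      IsMonHom i' ∧ IsClosedImmersion i'.left ∧ Smooth Γ.hom ∧ ConnectedSpace ↥Γ.left ∧
      Ser.F (⊤ : Subgroup (𝟙_ (Over (Spec (CommRingCat.of Ω))) ⟶ Γ)) = ⊥ ∧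
      (n : WithBot ℕ∞) ≤ topologicalKrullDim ↥Γ.left := by
  obtain ⟨U, P, a, hU, hεU, hflat, ⟨l, hl⟩, X₀, x₀, e₀, hred, hirr, hlft, hqc, he₀, hind, hdim⟩ :=
    exists_data K π hπ H i n hn
  haveI := hflat
  haveI := hred
  haveI := hirr
  haveI := hlft
  haveI := hqc
  let η₀ := gen (V := V) K
  let j := Spec.map (CommRingCat.ofHom π)
  haveI : IsClosedImmersion j := IsClosedImmersion.spec_of_surjective _ hπ
  haveI : LocallyOfFiniteType (Red.bc j G).hom := MorphismProperty.pullback_snd _ _ ‹LocallyOfFiniteType G.hom›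
  let cG : (Red.bc j G).left ⟶ G.left := pullback.fst G.hom j
  haveI : IsClosedImmersion cG := MorphismProperty.pullback_fst _ _ inferInstance
  let e : X₀ ⟶ Red.bc j G := x₀ ≫ (Over.pullback j).map a
  have he1 : e₀ ≫ e = 1 := by
    refine he₀.trans ?_
    rw [Hom.one_def, toUnit_unit, Category.id_comp]
  haveI : IsAffine (U : Scheme.{u}) := hU
  let Y : Over (Spec (CommRingCat.of V)) := Over.mk (U.ι ≫ G.hom)
  haveI : IsAffine Y.left := hU
  haveI : IsSeparated Y.hom := inferInstance
  have key : ∀ (N : ℕ) (y : Fin N → (𝟙_ (Over (Spec (CommRingCat.of Ω))) ⟶ X₀)),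
      Ser.F (Subgroup.closure (Set.range fun m => y m ≫ e)) = ⊥ := by
    intro N y
    let Q := pw P N
    haveI : Flat Q.hom := flat_pw P N
    let X := pw X₀ N
    haveI : IrreducibleSpace X.left := (props_pw X₀ N).1
    haveI : LocallyOfFiniteType X.hom := (props_pw X₀ N).2
    let adj := Over.mapPullbackAdj j
    let χ : X ⟶ Red.bc j Q :=
      adj.homEquiv X Q (plift N fun m => (adj.homEquiv X P).symm (pproj X₀ N m ≫ x₀))
    have hχ : ∀ m, χ ≫ (Over.pullback j).map (pproj P N m) = pproj X₀ N m ≫ x₀ := fun m => by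
      show adj.homEquiv X Q _ ≫ _ = _
      rw [← Adjunction.homEquiv_naturality_right, plift_proj, Equiv.apply_symm_apply]
    let ev : ∀ _ : 𝟙_ (Over (Spec (CommRingCat.of Ω))) ⟶ X, (Q ⟶ G) →* (𝟙_ (Over (Spec (CommRingCat.of Ω))) ⟶ Red.bc j G) :=
      fun t => (pre (Red.bc j G) (t ≫ χ)).comp (bm j G Q)
    let gens : Fin N → (Q ⟶ G) := fun m => pproj P N m ≫ a
    let SS := Subgroup.closure (Set.range gens)
    have hev : ∀ t m, ev t (gens m) = (t ≫ pproj X₀ N m) ≫ e := fun t m => by
      show (t ≫ χ) ≫ (Over.pullback j).map (pproj P N m ≫ a) = _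
      rw [Functor.map_comp, Category.assoc, reassoc_of% (hχ m), Category.assoc]
    have hmap : ∀ t, SS.map (ev t) = Subgroup.closure (Set.range fun m => (t ≫ pproj X₀ N m) ≫ e) := fun t => by
      rw [MonoidHom.map_closure, ← Set.range_comp]
      exact congrArg (fun g => Subgroup.closure (Set.range g)) (_root_.funext (hev t))
    have hz : ∀ z ∈ Ser.F SS, ∀ t, ev t z = 1 := by
      intro z hz
      -- generic triviality
      have hgen : bm η₀ G Q z = 1 := by
        have h1 : SS.map (bm η₀ G Q) ≤ (⊤ : Subgroup (Red.bc η₀ Q ⟶ H)).map (post i (Red.bc η₀ Q)) := by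
          rw [Subgroup.map_le_iff_le_comap, Subgroup.closure_le]
          rintro _ ⟨m, rfl⟩
          refine ⟨(Over.pullback η₀).map (pproj P N m) ≫ l, trivial, ?_⟩
          show ((Over.pullback η₀).map _ ≫ l) ≫ i = (Over.pullback η₀).map (pproj P N m ≫ a)
          rw [Category.assoc, hl, Functor.map_comp]
        have h2 := Ser.mono h1 ((Ser.map (bm η₀ G Q) SS).le (Subgroup.mem_map_of_mem (bm η₀ G Q) hz))
        rw [← Ser.map, hH, Subgroup.map_bot, Subgroup.mem_bot] at h2
        exact h2
      -- triviality near the unit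
      let O : Q.left.Opens := z.left ⁻¹ᵁ U
      let T : Over (Spec (CommRingCat.of V)) := Over.mk (O.ι ≫ Q.hom)
      let o : T ⟶ Q := Over.homMk O.ι rfl
      haveI : Flat T.hom := inferInstanceAs (Flat (O.ι ≫ Q.hom))
      have hone : ∀ q, (1 : Q ⟶ G).left q ∈ Set.range η[G].left := fun q =>
        ⟨(toUnit Q).left q, by rw [Hom.one_def]; rfl⟩
      let f₁ : T ⟶ Y := Over.homMk (IsOpenImmersion.lift U.ι (o ≫ z).left (by
        rintro _ ⟨p, rfl⟩; exact ⟨⟨(o ≫ z).left p, p.2⟩, rfl⟩)) (by
        show IsOpenImmersion.lift _ _ _ ≫ U.ι ≫ G.hom = _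
        rw [IsOpenImmersion.lift_fac_assoc]; exact Over.w (o ≫ z))
      let f₂ : T ⟶ Y := Over.homMk (IsOpenImmersion.lift U.ι (o ≫ (1 : Q ⟶ G)).left (by
        rintro _ ⟨p, rfl⟩; exact ⟨⟨(o ≫ (1 : Q ⟶ G)).left p, hεU (hone _)⟩, rfl⟩)) (by
        show IsOpenImmersion.lift _ _ _ ≫ U.ι ≫ G.hom = _
        rw [IsOpenImmersion.lift_fac_assoc]; exact Over.w (o ≫ (1 : Q ⟶ G)))
      have hloc : o ≫ z = o ≫ (1 : Q ⟶ G) := by
        have h : f₁ = f₂ := PrincBundLib.ext_generic K (by
          apply Over.OverMorphism.ext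
          show pullback.fst T.hom η₀ ≫ IsOpenImmersion.lift _ _ _ = pullback.fst T.hom η₀ ≫ IsOpenImmersion.lift _ _ _
          rw [← cancel_mono U.ι, Category.assoc, Category.assoc, IsOpenImmersion.lift_fac, IsOpenImmersion.lift_fac,
            Over.comp_left, Over.comp_left, ← Category.assoc, ← Category.assoc, ← map_left_fst η₀ o, Category.assoc,
            Category.assoc, ← bm_left_fst, ← bm_left_fst, hgen, map_one])
        apply Over.OverMorphism.ext
        have h' := congrArg (fun φ : T ⟶ Y => φ.left ≫ U.ι) h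
        simpa [f₁, f₂] using h'
      let z' : X ⟶ Red.bc j G := χ ≫ bm j G Q z
      let o' : X ⟶ Red.bc j G := 1
      have hz' : z'.left ≫ cG = (χ.left ≫ pullback.fst Q.hom j) ≫ z.left := by
        rw [Over.comp_left, Category.assoc, bm_left_fst, Category.assoc]
      have ho' : o'.left ≫ cG = (χ.left ≫ pullback.fst Q.hom j) ≫ (1 : Q ⟶ G).left := by
        rw [show o' = χ ≫ bm j G Q 1 by rw [map_one, MonObj.comp_one]]
        rw [Over.comp_left, Category.assoc, bm_left_fst, Category.assoc]
      let O' : X.left.Opens := (χ.left ≫ pullback.fst Q.hom j) ⁻¹ᵁ O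
      have hO' : ∀ p ∈ O', z'.left p = o'.left p := by
        intro p hp
        apply cG.isClosedEmbedding.injective
        rw [← Scheme.Hom.comp_apply, hz', ← Scheme.Hom.comp_apply o'.left, ho', Scheme.Hom.comp_apply,
          Scheme.Hom.comp_apply]
        exact congrArg (fun φ : T ⟶ G => φ.left ⟨_, hp⟩) hloc
      let t₀ : 𝟙_ (Over (Spec (CommRingCat.of Ω))) ⟶ X := plift N fun _ => e₀
      have ht₀ : ev t₀ z = 1 := by
        have hh := Subgroup.mem_map_of_mem (ev t₀) hz
        rw [Ser.map, hmap] at hh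
        have hle : Subgroup.closure (Set.range fun m => (t₀ ≫ pproj X₀ N m) ≫ e) = ⊥ := by
          rw [Subgroup.closure_eq_bot_iff]
          rintro _ ⟨m, rfl⟩
          simp only [t₀, plift_proj]
          exact he1
        exact Subgroup.mem_bot.1 (hle ▸ Ser.le _ hh)
      have hne : (O' : Set X.left).Nonempty := by
        refine ⟨t₀.left GenSubLib.base₀, ?_⟩
        show z.left ((χ.left ≫ pullback.fst Q.hom j) _) ∈ U
        rw [← Scheme.Hom.comp_apply, ← hz', ← Scheme.Hom.comp_apply, ← Category.assoc, ← Over.comp_left,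
          show t₀ ≫ z' = t₀ ≫ o' from (Category.assoc _ _ _).symm.trans (ht₀.trans (MonObj.comp_one (M := Red.bc j G) t₀).symm),
          Over.comp_left, Category.assoc, ho', ← Category.assoc, Scheme.Hom.comp_apply]
        exact hεU (hone _)
      let c₁ : (Red.bc j G).left := η[Red.bc j G].left GenSubLib.base₀
      have hconst : ∀ p, o'.left p = c₁ := fun p => by
        show (1 : X ⟶ Red.bc j G).left p = _
        rw [Hom.one_def, Over.comp_left, Scheme.Hom.comp_apply]
        congr 1
        exact Subsingleton.elim (α := PrimeSpectrum Ω) _ _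
      have hcl : IsClosed (z'.left ⁻¹' {c₁}) := (GenSubLib.isClosed_pt _).preimage z'.left.continuous
      have hall : ∀ p, z'.left p = c₁ := fun p => by
        have h1 : closure (O' : Set X.left) ⊆ z'.left ⁻¹' {c₁} :=
          closure_minimal (fun p hp => (hO' p hp).trans (hconst p)) hcl
        exact h1 ((O'.2.dense hne).closure_eq ▸ Set.mem_univ p)
      intro t
      show (t ≫ χ) ≫ bm j G Q z = 1
      rw [Category.assoc, ← MonObj.comp_one t]
      refine GenSubLib.pt_ext ?_
      rw [Over.comp_left, Scheme.Hom.comp_apply, Over.comp_left, Scheme.Hom.comp_apply]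
      exact (hall _).trans (hconst _).symm
    let t := plift N y
    have hrange : (fun m => (t ≫ pproj X₀ N m) ≫ e) = fun m => y m ≫ e :=
      _root_.funext fun m => by rw [plift_proj]
    rw [← hrange, ← hmap t, ← Ser.map, eq_bot_iff]
    rintro _ ⟨z, hzm, rfl⟩
    exact Subgroup.mem_bot.2 (hz z hzm t)
  let A₀ := Subgroup.closure (Set.range fun y : 𝟙_ (Over (Spec (CommRingCat.of Ω))) ⟶ X₀ => y ≫ e)
  have hA₀ : Ser.F A₀ = ⊥ := eq_bot_of_finite Ser _ fun N y hy => by
    choose g hg using hy
    rw [show y = fun m => g m ≫ e from _root_.funext fun m => (hg m).symm]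
    exact key N g
  haveI : GeometricallyReduced X₀.hom := AVLib.geometricallyReduced_of_perfect X₀.hom
  haveI : ∀ _ : PUnit.{1}, GeometricallyReduced X₀.hom := fun _ => ‹_›
  haveI : GeometricallyConnected X₀.hom := GenSubLib.geometricallyConnected_of_rational e₀
  obtain ⟨Γ, hΓ, iΓ, hi, hci, -, hgr, hr, hfac, -, -⟩ :=
    GenSubLib.exists_generated (X := fun _ : PUnit.{1} => X₀) (fun _ : PUnit.{1} => e)
  letI := hΓ
  haveI := hi
  haveI := hci
  haveI := hgr
  haveI : Mono iΓ := Over.mono_of_mono_left iΓ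
  haveI : LocallyOfFiniteType Γ.hom := by rw [← Over.w iΓ]; infer_instance
  haveI : ConnectedSpace Γ.left := by
    have h := (GenSubLib.isConnected_wordSet (fun _ : PUnit.{1} => e) (fun _ => e₀) (fun _ => he1.trans (by
      rw [Hom.one_def, toUnit_unit, Category.id_comp]))).closure
    rw [← hr, ← Set.image_univ] at h
    rw [connectedSpace_iff_univ]
    exact ⟨⟨η[Γ].left GenSubLib.base₀, trivial⟩,
      iΓ.left.isClosedEmbedding.isInducing.isPreconnected_image.1 h.isPreconnected⟩
  refine ⟨Γ, hΓ, iΓ, hi, hci, @smooth_of_grpObj _ _ _ Γ.hom ‹LocallyOfFiniteType Γ.hom› hΓ hgr, inferInstance, ?_, ?_⟩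
  · rw [eq_bot_iff]
    intro z hz
    have h1 : (⊤ : Subgroup _).map (post iΓ _) ≤ A₀ := by
      rintro _ ⟨w, -, rfl⟩
      have h2 := GenSubLib.pts_closure_wordSet (fun _ : PUnit.{1} => e) (fun _ => e₀) (fun _ => he1) (w ≫ iΓ) (by
        rw [← hr]
        exact ⟨w.left GenSubLib.base₀, rfl⟩)
      rw [Set.iUnion_const] at h2
      exact h2
    have h3 := Ser.mono h1 (Ser.map (post iΓ _) ⊤ ▸ Subgroup.mem_map_of_mem _ hz)
    rw [hA₀, Subgroup.mem_bot] at h3
    rw [Subgroup.mem_bot, ← cancel_mono iΓ, MonObj.one_comp]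
    exact h3
  · obtain ⟨q, hq⟩ := hfac PUnit.unit
    refine hdim.trans ?_
    have hqi : IsInducing q.left := by
      refine IsInducing.of_comp q.left.continuous iΓ.left.continuous ?_
      convert hind using 1
      funext p
      exact congrArg (fun φ : X₀ ⟶ Red.bc j G => φ.left p) hq
    exact hqi.topologicalKrullDim_le

end Groth.Agent.SubgSpecLib
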