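import Groth.Agent.SubgSpecLib.Chain
import Groth.Agent.S18063
import Groth.Agent.S18082

/-!
# Commutativity, nilpotency and solvability through flat closures
-/

set_option autoImplicit false
set_option backward.isDefEq.respectTransparency false
set_option backward.isDefEq.respectTransparency.types false
set_option linter.style.haveILetI false
set_option linter.unusedSectionVars false

universe u

open CategoryTheory CategoryTheory.Limits MonoidalCategory CartesianMonoidalCategory MonObj AlgebraicGeometry
open Groth.Agent.FixedSmooth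

attribute [-instance] CategoryTheory.CommGrpObj.toIsCommMonObj CategoryTheory.CommGrpObj.toGrpObj CategoryTheory.Hom.commGroup

noncomputable section

namespace Groth.Agent.SubgSpecLib

/-- Postcomposition with an isomorphism of groups. -/
def isoPost {S : Scheme.{u}} {G G' : Over S} [GrpObj G] [GrpObj G'] (e : G ≅ G') [IsMonHom e.hom] (T : Over S) :
    (T ⟶ G) ≃* (T ⟶ G') where
  toFun f := f ≫ e.hom
  invFun f := f ≫ e.inv
  left_inv f := by simp
  right_inv f := by simp
  map_mul' f g := MonObj.mul_comp f g e.hom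

theorem solvable_of_equiv {A B : Type*} [Group A] [Group B] (e : A ≃* B) {n : ℕ} (h : derivedSeries A n = ⊥) :
    derivedSeries B n = ⊥ := by
  rw [← map_derivedSeries_eq (f := e.toMonoidHom) e.surjective, h, Subgroup.map_bot]

theorem nilpotent_of_equiv {A B : Type*} [Group A] [Group B] (e : A ≃* B) {n : ℕ}
    (h : (⊤ : Subgroup A).lowerCentralSeries n = ⊥) : (⊤ : Subgroup B).lowerCentralSeries n = ⊥ := by
  rw [← Subgroup.map_top_of_surjective e.toMonoidHom e.surjective, ← Subgroup.map_lowerCentralSeries, h,
    Subgroup.map_bot]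

/-- The three group properties. -/
def GProp.comm : GProp.{u} :=
  GProp.ofGrp (fun H _ => IsCommMonObj H) fun {_ _} w H _ h => by
    rw [GenSubLib.isCommMonObj_iff] at h ⊢
    intro T a b
    apply (adjEquiv w H T).symm.injective
    rw [map_mul, map_mul]
    exact h _ _ _

/-- Nilpotency. -/
def GProp.nilp : GProp.{u} :=
  GProp.ofGrp (fun H _ => AGF.IsNilpotentGrp H) fun {_ _} w H _ h => by
    rw [GenSubLib.isNilpotentGrp_iff] at h ⊢
    obtain ⟨n, hn⟩ := h
    exact ⟨n, fun T => nilpotent_of_equiv (adjEquiv w H T) (hn _)⟩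

/-- Solvability. -/
def GProp.solv : GProp.{u} :=
  GProp.ofGrp (fun H _ => Red.IsSolvableGrp H) fun {_ _} w H _ h => by
    obtain ⟨n, hn⟩ := h
    exact ⟨n, fun T => solvable_of_equiv (adjEquiv w H T) (hn _)⟩

variable {V : Type u} [CommRing V] [IsDomain V] [IsDiscreteValuationRing V]
variable (G : Over (Spec (CommRingCat.of V))) [GrpObj G] [IsSeparated G.hom] [LocallyOfFiniteType G.hom]
  [QuasiCompact G.hom]

theorem sub_props (H : Over (Spec (CommRingCat.of V))) (j : H ⟶ G) [IsClosedImmersion j.left] :
    IsSeparated H.hom ∧ LocallyOfFinitePresentation H.hom ∧ QuasiCompact H.hom := by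
  rw [← Over.w j]
  haveI : LocallyOfFiniteType (j.left ≫ G.hom) := inferInstance
  exact ⟨inferInstance, LocallyOfFinitePresentation.iff_locallyOfFiniteType.2 ‹_›, inferInstance⟩

theorem closureStable_comm : ClosureStable GProp.comm G := by
  intro H _ j _ _ _ HK _ i _ θ _ _ h
  obtain ⟨hs, hfp, hqc⟩ := sub_props G H j
  haveI := hs
  haveI := hfp
  haveI := hqc
  haveI : IsCommMonObj (Red.bc (Spec.map (CommRingCat.ofHom (algebraMap V (FractionRing V)))) H) := by
    change IsCommMonObj HK at h
    show IsCommMonObj (Red.bc (Neron.genPt V) H)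
    rw [GenSubLib.isCommMonObj_iff] at h ⊢
    intro T a b
    apply (isoPost θ T).injective
    rw [map_mul, map_mul]
    exact h _ _ _
  exact S18063.result V (FractionRing V) H

theorem closureStable_nilp : ClosureStable GProp.nilp G := by
  intro H _ j _ _ _ HK _ i _ θ _ _ h
  obtain ⟨hs, hfp, hqc⟩ := sub_props G H j
  haveI := hs
  haveI := hfp
  haveI := hqc
  refine (S18082.result V (FractionRing V) H).1 ?_
  change AGF.IsNilpotentGrp HK at h
  show AGF.IsNilpotentGrp (Red.bc (Neron.genPt V) H)
  rw [GenSubLib.isNilpotentGrp_iff] at h ⊢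
  obtain ⟨n, hn⟩ := h
  exact ⟨n, fun T => nilpotent_of_equiv (isoPost θ T).symm (hn T)⟩

theorem closureStable_solv : ClosureStable GProp.solv G := by
  intro H _ j _ _ _ HK _ i _ θ _ _ h
  obtain ⟨hs, hfp, hqc⟩ := sub_props G H j
  haveI := hs
  haveI := hfp
  haveI := hqc
  refine (S18082.result V (FractionRing V) H).2 ?_
  obtain ⟨n, hn⟩ := (h : Red.IsSolvableGrp HK)
  exact ⟨n, fun T => solvable_of_equiv (isoPost θ T).symm (hn T)⟩

end Groth.Agent.SubgSpecLib
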