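import Groth.Agent.SubgSpecLib.Chain
import Groth.Agent.RegLocal.Basic

/-!
# Closed subgroups of a given dimension down a regular local ring
-/

set_option autoImplicit false
set_option backward.isDefEq.respectTransparency false
set_option backward.isDefEq.respectTransparency.types false
set_option linter.style.haveILetI false
set_option linter.unusedSectionVars false

universe u

open CategoryTheory CategoryTheory.Limits AlgebraicGeometry
open IsLocalRing

noncomputable section

namespace Groth.Agent.SubgSpecLib

theorem isIso_spec {K L : Type u} [CommRing K] [CommRing L] (e : K ≃+* L) :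
    IsIso (Spec.map (CommRingCat.ofHom e.toRingHom)) := by
  have : IsIso (CommRingCat.ofHom e.toRingHom) := e.toCommRingCatIso.isIso_hom
  infer_instance

/-- One step along a discrete valuation ring over the base, for any fraction field. -/
theorem Sub.stepOver {P : GProp.{u}} {S : Scheme.{u}} (G : Over S) [GrpObj G] [LocallyOfFiniteType G.hom] {d : ℕ}
    {V : Type u} [CommRing V] [IsDomain V] [IsDiscreteValuationRing V] (v : Spec (CommRingCat.of V) ⟶ S)
    (hcl : ClosureStable P (Red.bc v G)) (K : Type u) [Field K] [Algebra V K] [IsFractionRing V K]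
    (h : Sub P (Spec.map (CommRingCat.ofHom (algebraMap V K)) ≫ v) G d) :
    Sub P (Spec.map (CommRingCat.ofHom (algebraMap V (ResidueField V))) ≫ v) G d := by
  haveI : LocallyOfFiniteType (Red.bc v G).hom := MorphismProperty.pullback_snd _ _ ‹LocallyOfFiniteType G.hom›
  have h1 : Sub P (Neron.genPt V ≫ v) G d := by
    haveI := isIso_spec (FractionRing.algEquiv V K).symm.toRingEquiv
    refine h.of_iso (Spec.map (CommRingCat.ofHom (FractionRing.algEquiv V K).symm.toRingEquiv.toRingHom)) ?_
    rw [← Category.assoc, ← Spec.map_comp]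
    congr 2
    ext a
    exact (FractionRing.algEquiv V K).symm.commutes a
  exact Sub.of_comp rfl (Sub.step _ hcl (Sub.to_comp rfl h1))

set_option maxHeartbeats 800000 in
/-- A subgroup of the generic fibre of a regular quotient gives one at the closed point. -/
theorem Sub.regular {P : GProp.{u}} {A : Type u} [CommRing A] (G : Over (Spec (CommRingCat.of A))) [GrpObj G]
    [LocallyOfFiniteType G.hom]
    (hcl : ∀ (V : Type u) [CommRing V] [IsDomain V] [IsDiscreteValuationRing V]
      (v : Spec (CommRingCat.of V) ⟶ Spec (CommRingCat.of A)), ClosureStable P (Red.bc v G)) (d : ℕ) :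
    ∀ (n : ℕ) (B : Type u) [CommRing B] [IsRegularLocalRing B] [IsDomain B] (π : A →+* B),
      ringKrullDim B = n → ∀ (K : Type u) [Field K] [Algebra B K] [IsFractionRing B K],
        Sub P (Spec.map (CommRingCat.ofHom ((algebraMap B K).comp π))) G d →
          Sub P (Spec.map (CommRingCat.ofHom ((residue B).comp π))) G d := by
  intro n
  induction n with
  | zero =>
    intro B _ _ _ π hB K _ _ _ h
    haveI : Ring.KrullDimLE 0 B := Ring.krullDimLE_iff.2 (by rw [hB])
    have hf : IsField B := Ring.KrullDimLE.isField_of_isDomain
    have hK : Function.Bijective (algebraMap B K) :=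
      ⟨IsFractionRing.injective B K, IsFractionRing.surjective_iff_isField.2 hf⟩
    let e₁ : B ≃+* K := RingEquiv.ofBijective _ hK
    have hbij : Function.Bijective ((residue B).comp e₁.symm.toRingHom) :=
      ⟨RingHom.injective _, residue_surjective.comp e₁.symm.surjective⟩
    let e : K ≃+* ResidueField B := RingEquiv.ofBijective _ hbij
    haveI := isIso_spec e
    refine h.of_iso (Spec.map (CommRingCat.ofHom e.toRingHom)) ?_
    rw [← Spec.map_comp]
    congr 1
    ext a
    show residue B (e₁.symm (e₁ (π a))) = _
    rw [RingEquiv.symm_apply_apply]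
    rfl
  | succ n ih =>
    intro B _ _ _ π hB K _ _ _ h
    have hnf : maximalIdeal B ≠ ⊥ := fun h0 => by
      have hf : IsField B := (IsLocalRing.isField_iff_maximalIdeal_eq).2 h0
      rw [ringKrullDim_eq_zero_of_isField hf] at hB
      have : n + 1 = 0 := by exact_mod_cast hB.symm
      omega
    obtain ⟨x, hx, hx2⟩ : ∃ x, x ∈ maximalIdeal B ∧ x ∉ maximalIdeal B ^ 2 := by
      by_contra hc
      push_neg at hc
      refine hnf (Submodule.eq_bot_of_le_smul_of_le_jacobson_bot _ _ (IsNoetherian.noetherian _) ?_
        (jacobson_eq_maximalIdeal ⊥ bot_ne_top).ge)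
      rw [smul_eq_mul, ← pow_two]
      exact hc
    obtain ⟨hreg, -, hdim⟩ := RegLocal.quot_singleton B hB hx hx2
    haveI := hreg
    haveI : IsDomain (B ⧸ Ideal.span {x}) := RegLocal.isDomain_aux _ _ hdim
    let p : Ideal B := Ideal.span {x}
    haveI : p.IsPrime := (Ideal.Quotient.isDomain_iff_prime p).1 ‹_›
    let V := Localization.AtPrime p
    haveI : IsNoetherianRing V := IsLocalization.isNoetherianRing p.primeCompl V inferInstance
    haveI : IsDomain V := IsLocalization.isDomain_localization p.primeCompl_le_nonZeroDivisors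
    have hx0 : x ≠ 0 := fun h0 => hx2 (h0 ▸ zero_mem _)
    have hmax : maximalIdeal V = Ideal.span {algebraMap B V x} := by
      rw [← Localization.AtPrime.map_eq_maximalIdeal, Ideal.map_span, Set.image_singleton]
    haveI : IsDiscreteValuationRing V := by
      have hVnf : ¬ IsField V := fun hf => by
        rw [IsLocalRing.isField_iff_maximalIdeal_eq, hmax, Ideal.span_singleton_eq_bot] at hf
        exact hx0 ((map_eq_zero_iff _ (IsLocalization.injective V p.primeCompl_le_nonZeroDivisors)).1 hf)
      exact ((IsDiscreteValuationRing.TFAE V hVnf).out 0 4 : IsDiscreteValuationRing V ↔ (maximalIdeal V).IsPrincipal).2 ⟨_, hmax⟩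
    letI : Algebra V K := (IsLocalization.lift (M := p.primeCompl) (S := V) (g := algebraMap B K) fun y =>
      Ne.isUnit ((map_ne_zero_iff _ (IsFractionRing.injective B K)).2 fun h0 => y.2 (h0 ▸ p.zero_mem))).toAlgebra
    haveI : IsScalarTower B V K := IsScalarTower.of_algebraMap_eq fun b => (IsLocalization.lift_eq _ b).symm
    haveI : IsFractionRing V K := IsFractionRing.isFractionRing_of_isDomain_of_isLocalization p.primeCompl V K
    let v : Spec (CommRingCat.of V) ⟶ Spec (CommRingCat.of A) :=
      Spec.map (CommRingCat.ofHom ((algebraMap B V).comp π))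
    have h2 : Sub P (Spec.map (CommRingCat.ofHom (algebraMap V (ResidueField V))) ≫ v) G d := by
      refine Sub.stepOver G v (hcl V v) K ?_
      convert h using 2
      rw [← Spec.map_comp]
      congr 1
      ext a
      exact (IsScalarTower.algebraMap_apply B V K (π a)).symm
    letI : Algebra (B ⧸ p) (ResidueField V) := inferInstanceAs (Algebra (B ⧸ p) p.ResidueField)
    haveI : IsFractionRing (B ⧸ p) (ResidueField V) := inferInstanceAs (IsFractionRing (B ⧸ p) p.ResidueField)
    have h3 := ih (B ⧸ p) ((Ideal.Quotient.mk p).comp π) (by rw [hdim, Nat.add_sub_cancel]) (ResidueField V) (by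
      refine h2.of_iso (𝟙 _) ?_
      rw [Category.id_comp, ← Spec.map_comp]
      rfl)
    haveI : IsLocalHom (Ideal.Quotient.mk p) :=
      Function.Surjective.isLocalHom _ Ideal.Quotient.mk_surjective
    have hbij : Function.Bijective (ResidueField.map (Ideal.Quotient.mk p)) :=
      ⟨RingHom.injective _, fun y => by
        obtain ⟨y, rfl⟩ := residue_surjective y
        obtain ⟨b, rfl⟩ := Ideal.Quotient.mk_surjective y
        exact ⟨residue B b, rfl⟩⟩
    let e : ResidueField (B ⧸ p) ≃+* ResidueField B := (RingEquiv.ofBijective _ hbij).symm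
    haveI := isIso_spec e
    refine h3.of_iso (Spec.map (CommRingCat.ofHom e.toRingHom)) ?_
    rw [← Spec.map_comp]
    congr 1
    ext a
    show e (residue (B ⧸ p) (Ideal.Quotient.mk p (π a))) = residue B (π a)
    exact (RingEquiv.ofBijective _ hbij).symm_apply_apply (residue B (π a))

end Groth.Agent.SubgSpecLib
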