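import Groth.Agent.SubgSpecLib.Ext
import Groth.Agent.SchClosureLib.Basic
import Groth.Agent.FixedSmooth.Split
import Groth.Agent.FixedSmooth.Normalizer
import Groth.Agent.FlatDim.Scheme
import Groth.Agent.Neutral.Closure
import Groth.Agent.OpenDim.SectionDim
import Groth.Agent.GenSubLib.Nilp

/-!
# Closed subgroups of a given dimension along discrete valuation rings
-/

set_option autoImplicit false
set_option backward.isDefEq.respectTransparency false
set_option backward.isDefEq.respectTransparency.types false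
set_option linter.style.haveILetI false
set_option linter.unusedSectionVars false

universe u

open CategoryTheory CategoryTheory.Limits MonoidalCategory CartesianMonoidalCategory MonObj AlgebraicGeometry
open IsLocalRing Groth.Agent.FixedSmooth

attribute [-instance] CategoryTheory.CommGrpObj.toIsCommMonObj CategoryTheory.CommGrpObj.toGrpObj CategoryTheory.Hom.commGroup

noncomputable section

namespace Groth.Agent.SubgSpecLib

/-- A property of subgroups stable under base change and isomorphism of the ambient group. -/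
structure GProp where
  holds : ∀ {B : Scheme.{u}} {H G : Over B} [GrpObj H] [GrpObj G] (i : H ⟶ G) [IsMonHom i], Prop
  bc : ∀ {B B' : Scheme.{u}} (w : B' ⟶ B) {H G : Over B} [GrpObj H] [GrpObj G] (i : H ⟶ G) [IsMonHom i],
    holds i → holds ((Over.pullback w).map i)
  comp : ∀ {B : Scheme.{u}} {H G G' : Over B} [GrpObj H] [GrpObj G] [GrpObj G'] (i : H ⟶ G) [IsMonHom i]
    (e : G ≅ G') [IsMonHom e.hom], holds i → holds (i ≫ e.hom)

/-- A closed subgroup of given dimension with the property, after base change along `φ`. -/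
def Sub (P : GProp.{u}) {L S : Scheme.{u}} (φ : L ⟶ S) (G : Over S) [GrpObj G] (d : ℕ) : Prop :=
  ∃ (H : Over L) (_ : GrpObj H) (i : H ⟶ Red.bc φ G) (_ : IsMonHom i),
    IsClosedImmersion i.left ∧ P.holds i ∧ topologicalKrullDim ↥H.left = (d : WithBot ℕ∞)

theorem Sub.of_comp {P : GProp.{u}} {L S S' : Scheme.{u}} {φ : L ⟶ S'} {v : S' ⟶ S} {ψ : L ⟶ S} {G : Over S}
    [GrpObj G] {d : ℕ} (h : φ ≫ v = ψ) (hs : Sub P φ (Red.bc v G) d) : Sub P ψ G d := by
  obtain ⟨H, hH, i, hi, hc, hP, hd⟩ := hs
  letI := hH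
  haveI := hi
  haveI := hc
  obtain ⟨e, he⟩ : ∃ e : Red.bc φ (Red.bc v G) ≅ Red.bc ψ G, IsMonHom e.hom :=
    ⟨_, ActBC.bcCompIso_isMonHom φ v h⟩
  refine ⟨H, hH, i ≫ e.hom, inferInstance, ?_, P.comp i e hP, hd⟩
  rw [Over.comp_left]
  infer_instance

theorem Sub.to_comp {P : GProp.{u}} {L S S' : Scheme.{u}} {φ : L ⟶ S'} {v : S' ⟶ S} {ψ : L ⟶ S} {G : Over S}
    [GrpObj G] {d : ℕ} (h : φ ≫ v = ψ) (hs : Sub P ψ G d) : Sub P φ (Red.bc v G) d := by
  obtain ⟨H, hH, i, hi, hc, hP, hd⟩ := hs
  letI := hH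
  haveI := hi
  haveI := hc
  obtain ⟨e, he⟩ : ∃ e : Red.bc φ (Red.bc v G) ≅ Red.bc ψ G, IsMonHom e.hom :=
    ⟨_, ActBC.bcCompIso_isMonHom φ v h⟩
  haveI : IsMonHom e.symm.hom := inferInstanceAs (IsMonHom e.inv)
  refine ⟨H, hH, i ≫ e.symm.hom, inferInstance, ?_, P.comp i e.symm hP, hd⟩
  rw [Over.comp_left]
  infer_instance

theorem Sub.of_iso {P : GProp.{u}} {L L' S : Scheme.{u}} {φ : L ⟶ S} {ψ : L' ⟶ S} {G : Over S} [GrpObj G] {d : ℕ}
    (σ : L' ⟶ L) [IsIso σ] (h : σ ≫ φ = ψ) (hs : Sub P φ G d) : Sub P ψ G d := by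
  obtain ⟨H, hH, i, hi, hc, hP, hd⟩ := hs
  letI := hH
  haveI := hi
  obtain ⟨e, he⟩ : ∃ e : Red.bc σ (Red.bc φ G) ≅ Red.bc ψ G, IsMonHom e.hom :=
    ⟨_, ActBC.bcCompIso_isMonHom σ φ h⟩
  haveI : IsClosedImmersion ((Over.pullback σ).map i).left :=
    MorphismProperty.of_isPullback (P := @IsClosedImmersion) (FixedSmooth.isPullback_bc σ i) hc
  refine ⟨Red.bc σ H, inferInstance, (Over.pullback σ).map i ≫ e.hom, inferInstance, ?_, P.comp _ e (P.bc σ i hP), ?_⟩
  · rw [Over.comp_left]
    infer_instance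
  · rw [← hd]
    haveI : IsIso (pullback.fst H.hom σ) := inferInstance
    exact (Scheme.homeoOfIso (asIso (pullback.fst H.hom σ))).isHomeomorph.topologicalKrullDim_eq

/-- No condition. -/
def GProp.triv : GProp.{u} where
  holds _ := True
  bc := by intros; trivial
  comp := by intros; trivial

/-- Normality. -/
def GProp.normal : GProp.{u} where
  holds i := AlgGrp.IsNormalHom i
  bc := by
    intro B B' w H G _ _ i _ h T g n
    obtain ⟨c, hc⟩ := h ((Over.map w).obj T) ((adjEquiv w G T).symm g) ((adjEquiv w H T).symm n)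
    refine ⟨adjEquiv w H T c, ?_⟩
    have := congrArg (adjEquiv w G T) hc
    rw [map_mul, map_mul, map_inv, adjEquiv_comp, adjEquiv_comp, MulEquiv.apply_symm_apply,
      MulEquiv.apply_symm_apply] at this
    exact this
  comp := by
    intro B H G G' _ _ _ i _ e _ h T g n
    obtain ⟨c, hc⟩ := h T (g ≫ e.inv) n
    refine ⟨c, ?_⟩
    have := congrArg (· ≫ e.hom) hc
    simp only [MonObj.mul_comp, GrpObj.inv_comp, Category.assoc, e.inv_hom_id, Category.comp_id] at this
    exact this

/-- A property of the subgroup alone. -/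
def GProp.ofGrp (Pr : ∀ {B : Scheme.{u}} (H : Over B) [GrpObj H], Prop)
    (hbc : ∀ {B B' : Scheme.{u}} (w : B' ⟶ B) (H : Over B) [GrpObj H], Pr H → Pr (Red.bc w H)) : GProp.{u} where
  holds {_ H _} _ _ _ _ := Pr H
  bc := by
    intro B B' w H G _ _ i _ h
    exact hbc w H h
  comp := by
    intro B H G G' _ _ _ i _ e _ h
    exact h

variable {V : Type u} [CommRing V] [IsDomain V] [IsDiscreteValuationRing V]

/-- Passing the property through a flat closure. -/
def ClosureStable (P : GProp.{u}) (G : Over (Spec (CommRingCat.of V))) [GrpObj G] : Prop :=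
  ∀ (H : Over (Spec (CommRingCat.of V))) [GrpObj H] (j : H ⟶ G) [IsMonHom j] [IsClosedImmersion j.left] [Flat H.hom]
    (HK : Over (Spec (CommRingCat.of (FractionRing V)))) [GrpObj HK] (i : HK ⟶ Red.bc (Neron.genPt V) G) [IsMonHom i]
    (θ : Red.bc (Neron.genPt V) H ≅ HK) [IsMonHom θ.hom], θ.hom ≫ i = (Over.pullback (Neron.genPt V)).map j →
      P.holds i → P.holds ((Over.pullback (Spec.map (CommRingCat.ofHom (algebraMap V (ResidueField V))))).map j)

/-- A morphism from a flat object factors through a closed one when it does so on the generic fibre. -/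
theorem exists_factor {G H W : Over (Spec (CommRingCat.of V))} (j : H ⟶ G) [IsClosedImmersion j.left] [Flat W.hom]
    (g : W ⟶ G) (gK : Red.bc (Neron.genPt V) W ⟶ Red.bc (Neron.genPt V) H)
    (hg : gK ≫ (Over.pullback (Neron.genPt V)).map j = (Over.pullback (Neron.genPt V)).map g) :
    ∃ c : W ⟶ H, c ≫ j = g := by
  haveI := SchClosureLib.std_genPt V
  let w := Neron.genPt V
  let q : pullback W.hom w ⟶ W.left := pullback.fst _ _
  haveI : IsSchemeTheoreticallyDominant q := IsSchemeTheoreticallyDominant.pullbackFst _ _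
  have hq : q ≫ g.left = (gK.left ≫ pullback.fst H.hom w) ≫ j.left := by
    rw [Category.assoc, ← map_left_fst w j, ← Category.assoc, ← Over.comp_left, hg, map_left_fst]
  haveI : IsClosedImmersion (pullback.fst g.left j.left) := MorphismProperty.pullback_fst _ _ inferInstance
  haveI : IsIso (pullback.fst g.left j.left) := by
    refine IsClosedImmersion.isIso_iff_ker_eq_bot.2 (le_bot_iff.1 ?_)
    refine ((pullback.lift q (gK.left ≫ pullback.fst H.hom w) hq).le_ker_comp (pullback.fst g.left j.left)).trans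
      (le_of_eq ?_)
    rw [pullback.lift_fst]
    exact q.ker_eq_bot
  let c := inv (pullback.fst g.left j.left) ≫ pullback.snd g.left j.left
  have hc : c ≫ j.left = g.left := by simp [c, ← pullback.condition]
  exact ⟨Over.homMk c (by rw [← Over.w j, ← Category.assoc, hc, Over.w g]), Over.OverMorphism.ext hc⟩

theorem closureStable_triv (G : Over (Spec (CommRingCat.of V))) [GrpObj G] : ClosureStable GProp.triv G :=
  by intro H _ j _ _ _ HK _ i _ θ _ _ _; trivial

theorem closureStable_normal (G : Over (Spec (CommRingCat.of V))) [GrpObj G] [Flat G.hom] :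
    ClosureStable GProp.normal G := by
  intro H _ j _ _ _ HK _ i _ θ _ hθ h
  refine GProp.normal.bc _ j fun T g n => ?_
  haveI : Flat (G ⊗ H).hom := inferInstanceAs (Flat (pullback.fst G.hom H.hom ≫ G.hom))
  let F := Over.pullback (Neron.genPt V)
  let cj : G ⊗ H ⟶ G := fst G H * (snd G H ≫ j) * (fst G H)⁻¹
  obtain ⟨c, hc⟩ := h _ (F.map (fst G H)) (F.map (snd G H) ≫ θ.hom)
  obtain ⟨c', hc'⟩ := exists_factor j cj (c ≫ θ.inv) (by
    rw [Category.assoc, ← hθ, Iso.inv_hom_id_assoc, ← hc, Category.assoc, hθ, ← Functor.map_comp, Functor.map_mul,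
      Functor.map_mul]
    congr 1
    exact (map_inv (Functor.homMonoidHom F) (fst G H)).symm)
  refine ⟨lift g n ≫ c', ?_⟩
  rw [Category.assoc, hc', MonObj.comp_mul, MonObj.comp_mul, GrpObj.comp_inv, lift_fst, lift_snd_assoc]

/-- The special fibre of a flat group has the dimension of the generic one. -/
theorem dim_special (H : Over (Spec (CommRingCat.of V))) [GrpObj H] [Flat H.hom] [LocallyOfFiniteType H.hom] (d : ℕ)
    (hd : topologicalKrullDim ↥(Red.bc (Neron.genPt V) H).left = (d : WithBot ℕ∞)) :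
    topologicalKrullDim ↥(Red.bc (Spec.map (CommRingCat.ofHom (algebraMap V (ResidueField V)))) H).left =
      (d : WithBot ℕ∞) := by
  haveI : LocallyOfFinitePresentation H.hom := LocallyOfFinitePresentation.iff_locallyOfFiniteType.2 ‹_›
  let j := Spec.map (CommRingCat.ofHom (algebraMap V (ResidueField V)))
  let η₀ := Neron.genPt V
  rw [Neutral.dim_bc_field η₀] at hd
  rw [Neutral.dim_bc_field j]
  let η₁ : Spec (CommRingCat.of V) := η₀ (IsLocalRing.closedPoint (FractionRing V))
  let c₀ : Spec (CommRingCat.of V) := j (IsLocalRing.closedPoint (ResidueField V))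
  have hc₀ : c₀ = IsLocalRing.closedPoint V := IsLocalRing.comap_closedPoint (residue V)
  have hspec : η₁ ⤳ c₀ := by
    rw [hc₀]
    exact IsLocalRing.specializes_closedPoint η₁
  refine le_antisymm ?_ ?_
  · rw [← hd, ← (H.hom.fiberHomeo c₀).isHomeomorph.topologicalKrullDim_eq,
      ← (H.hom.fiberHomeo η₁).isHomeomorph.topologicalKrullDim_eq]
    exact FlatDim.topologicalKrullDim_fiber_le H.hom hspec
  · obtain ⟨W, A, -, -, hcW, -, hAW, heA⟩ := Neutral.exists_chart H ⊤ (fun _ => trivial) c₀
    let f := Neutral.chartMap hAW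
    have heA' : W ≤ (η[H].left : Spec (CommRingCat.of V) ⟶ H.left) ⁻¹ᵁ A := fun t ht => heA t ht
    have hsc := OpenDim.upperSemicontinuous_dim_comp f (Neutral.chartSection heA')
      (Neutral.chartSection_chartMap hAW heA') fun v =>
        OpenDim.isIrreducible_of_geom f (Neutral.chart_irreducible hAW heA' v)
    refine le_of_not_gt fun hlt => ?_
    let v₀ : (W : Scheme.{u}) := ⟨c₀, hcW⟩
    let v₁ : (W : Scheme.{u}) := ⟨η₁, hspec.mem_open W.2 hcW⟩
    have hs : v₁ ⤳ v₀ := W.ι.isOpenEmbedding.isInducing.specializes_iff.1 hspec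
    have h1 := hs.mem_open (hsc.isOpen_preimage (d : WithBot ℕ∞))
      (show v₀ ∈ _ ⁻¹' Set.Iio (d : WithBot ℕ∞) from (Neutral.dim_chartMap hAW heA' v₀).trans_lt hlt)
    exact (lt_irrefl _) (((Neutral.dim_chartMap hAW heA' v₁).trans hd).symm.trans_lt h1)

set_option maxHeartbeats 800000 in
/-- One step along a discrete valuation ring. -/
theorem Sub.step {P : GProp.{u}} (G : Over (Spec (CommRingCat.of V))) [GrpObj G] [LocallyOfFiniteType G.hom]
    (hcl : ClosureStable P G) {d : ℕ} (h : Sub P (Neron.genPt V) G d) :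
    Sub P (Spec.map (CommRingCat.ofHom (algebraMap V (ResidueField V)))) G d := by
  obtain ⟨HK, hHK, i, hi, hc, hP, hd⟩ := h
  letI := hHK
  haveI := hi
  haveI := hc
  obtain ⟨H, hH, j, φ, hj, hjc, hflat, hpb, hφ, -⟩ := SchClosureLib.exists_subgroup G HK i
  letI := hH
  haveI := hj
  haveI := hjc
  haveI := hflat
  haveI : LocallyOfFiniteType H.hom := by rw [← Over.w j]; infer_instance
  let η₀ := Neron.genPt V
  let θ : Red.bc η₀ H ≅ HK := Over.isoMk hpb.isoPullback.symm (by exact hpb.isoPullback_inv_snd)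
  have hθ : θ.hom ≫ i = (Over.pullback η₀).map j := by
    apply Over.OverMorphism.ext
    show hpb.isoPullback.inv ≫ i.left = _
    rw [Iso.inv_comp_eq]
    apply pullback.hom_ext
    · rw [Category.assoc, map_left_fst, hpb.isoPullback_hom_fst_assoc, hφ]
    · rw [Category.assoc]
      exact (Over.w i).trans (hpb.isoPullback_hom_snd.symm.trans (congrArg _ (Over.w ((Over.pullback η₀).map j))).symm)
  haveI : Mono i := Over.mono_of_mono_left i
  haveI : IsMonHom θ.hom := isMonHom_of_points θ.hom fun {T} a b => by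
    rw [← cancel_mono i, MonObj.mul_comp _ _ i]
    simp only [Category.assoc, hθ, MonObj.mul_comp]
  refine ⟨_, inferInstance, (Over.pullback _).map j, inferInstance,
    MorphismProperty.of_isPullback (P := @IsClosedImmersion) (FixedSmooth.isPullback_bc _ j) hjc,
    hcl H j HK i θ hθ hP, dim_special H d ?_⟩
  rw [← hd]
  exact (Scheme.homeoOfIso hpb.isoPullback.symm).isHomeomorph.topologicalKrullDim_eq

end Groth.Agent.SubgSpecLib
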